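import Cfsg.Agent.Lib.Chev.TwAutTypes

/-! The data of ²E₆(q) with its twisted root system made visible. -/

set_option autoImplicit false
set_option linter.unusedSectionVars false
set_option maxRecDepth 100000

namespace Cfsg.Lib.Chev

open Cfsg.Lie

variable {K : Type*} [Field K] [Fintype K] {q : ℕ}

/-- The data of ²E₆(q) from its field automorphism. -/
noncomputable abbrev ctxE6Of (hq : IsPrimePow q) (hK : Nat.card K = q ^ 2) {f : K →+* K}
    (hit : ∀ (j : ℕ) (t : K), f^[j] t = t ^ (q ^ j)) (hk : ∀ t, f^[2] t = t) : TwCtx chevE6 tblE6 K :=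
  ⟨symE6_1, twE6, 2, f, q, certE6C, fullCertE6, symOKE6_gr, twCombE6, twLinkedE6, twSimplyE6, hq, hK,
    by norm_num, hit, fun c => hZE6 hk c⟩

theorem ctxE6Of_spec (hq : IsPrimePow q) (hK : Fintype.card K = q ^ 2) {f : K →+* K} (hf : ∀ t, f t = t ^ q)
    (hit : ∀ (j : ℕ) (t : K), f^[j] t = t ^ (q ^ j)) (hk : ∀ t, f^[2] t = t) (hK' : Nat.card K = q ^ 2) :
    Cfsg.Lie.twistedE6 K q = (ctxE6Of hq hK' hit hk).grp ∧ (ctxE6Of hq hK' hit hk).AutChecks ∧
      Nat.card ↥((torusHom chevE6 tblE6 K).ker ⊓ twFixPar symOKE6_gr f certE6C) = Nat.gcd 3 (q + 1) := by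
  have hq2 : 2 ≤ q := hq.two_le
  have hZ := fun c => hZE6 hk c
  have h := twSimplyE6.twOK certE6C symOKE6_gr f fullCertE6 twCombE6
  have hgen := twSimplyE6.fixed_eq_closure certE6C symOKE6_gr f fullCertE6 twCombE6 twLinkedE6 hZ
  have heq : Cfsg.Lie.twistedE6 K q = h.fixed certE6C := by
    rw [hgen, Cfsg.Lie.twistedE6, ChevalleyDatum.genSubgroup]
    congr 1
    have b0 : twE6.base 0 = [56, 36] := rfl
    have b1 : twE6.base 1 = [42, 37] := rfl
    have b2 : twE6.base 2 = [39] := rfl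
    have b3 : twE6.base 3 = [46] := rfl
    have n0 : ([56, 36] : List ℕ).map tblE6.neg = [15, 35] := by decide +kernel
    have n1 : ([42, 37] : List ℕ).map tblE6.neg = [29, 34] := by decide +kernel
    have n2 : ([39] : List ℕ).map tblE6.neg = [32] := by decide +kernel
    have n3 : ([46] : List ℕ).map tblE6.neg = [25] := by decide +kernel
    have v2 : ∀ (J : ℕ), J = 2 ∨ J = 3 → ∀ t : K, f^[(twE6.orb J).length] t = t ↔ t ^ q = t := by
      rintro J (rfl | rfl) t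
      · rw [show (twE6.orb 2).length = 1 from rfl, hit, pow_one]
      · rw [show (twE6.orb 3).length = 1 from rfl, hit, pow_one]
    have v0 : ∀ (J : ℕ), J = 0 ∨ J = 1 → ∀ t : K, f^[(twE6.orb J).length] t = t := by
      rintro J (rfl | rfl) t <;> exact hk t
    have hcoe : ∀ (r : ℕ) (t : K), ((orbEl certE6C f [r] t : GL chevE6.Idx K) : Matrix chevE6.Idx chevE6.Idx K) =
        chevE6.wordMat K [(r, t)] := fun r t => by simp [orbEl, ChevalleyDatum.wordMat, coe_xg]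
    have hcoe2 : ∀ (r s : ℕ) (t : K), ((orbEl certE6C f [r, s] t : GL chevE6.Idx K) :
        Matrix chevE6.Idx chevE6.Idx K) = chevE6.wordMat K [(r, t), (s, t ^ q)] := fun r s t => by
      simp [orbEl, ChevalleyDatum.wordMat, coe_xg, hf]
    ext g
    constructor
    · rintro ⟨w, hw, hg⟩
      rcases hw with ⟨t, ht, r, hr, rfl⟩ | ⟨t, rs, hr, rfl⟩
      · simp only [List.mem_cons, List.not_mem_nil, or_false] at hr
        rcases hr with rfl | rfl | rfl | rfl
        · exact ⟨3, by decide, t, (v2 3 (by simp) t).2 ht, Or.inl (Units.ext (by rw [hg, b3, hcoe]; rfl))⟩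
        · exact ⟨3, by decide, t, (v2 3 (by simp) t).2 ht, Or.inr (Units.ext (by rw [hg, b3, n3, hcoe]; rfl))⟩
        · exact ⟨2, by decide, t, (v2 2 (by simp) t).2 ht, Or.inl (Units.ext (by rw [hg, b2, hcoe]; rfl))⟩
        · exact ⟨2, by decide, t, (v2 2 (by simp) t).2 ht, Or.inr (Units.ext (by rw [hg, b2, n2, hcoe]; rfl))⟩
      · simp only [List.mem_cons, List.not_mem_nil, or_false] at hr
        rcases hr with rfl | rfl | rfl | rfl
        · exact ⟨0, by decide, t, v0 0 (by simp) t, Or.inl (Units.ext (by rw [hg, b0, hcoe2]; rfl))⟩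
        · exact ⟨0, by decide, t, v0 0 (by simp) t, Or.inr (Units.ext (by rw [hg, b0, n0, hcoe2]; rfl))⟩
        · exact ⟨1, by decide, t, v0 1 (by simp) t, Or.inl (Units.ext (by rw [hg, b1, hcoe2]; rfl))⟩
        · exact ⟨1, by decide, t, v0 1 (by simp) t, Or.inr (Units.ext (by rw [hg, b1, n1, hcoe2]; rfl))⟩
    · rintro ⟨J, hJ, t, ht, hg⟩
      have : J = 0 ∨ J = 1 ∨ J = 2 ∨ J = 3 := by
        have : J < 4 := hJ
        omega
      rcases this with rfl | rfl | rfl | rfl <;> rcases hg with rfl | rfl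
      · exact ⟨_, Or.inr ⟨t, (e6p1, e6p6), by simp, rfl⟩, by rw [b0, hcoe2]; rfl⟩
      · exact ⟨_, Or.inr ⟨t, (e6m1, e6m6), by simp, rfl⟩, by rw [b0, n0, hcoe2]; rfl⟩
      · exact ⟨_, Or.inr ⟨t, (e6p3, e6p5), by simp, rfl⟩, by rw [b1, hcoe2]; rfl⟩
      · exact ⟨_, Or.inr ⟨t, (e6m3, e6m5), by simp, rfl⟩, by rw [b1, n1, hcoe2]; rfl⟩
      · exact ⟨_, Or.inl ⟨t, (v2 2 (by simp) t).1 ht, e6p4, by simp, rfl⟩, by rw [b2, hcoe]; rfl⟩
      · exact ⟨_, Or.inl ⟨t, (v2 2 (by simp) t).1 ht, e6m4, by simp, rfl⟩, by rw [b2, n2, hcoe]; rfl⟩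
      · exact ⟨_, Or.inl ⟨t, (v2 3 (by simp) t).1 ht, e6p2, by simp, rfl⟩, by rw [b3, hcoe]; rfl⟩
      · exact ⟨_, Or.inl ⟨t, (v2 3 (by simp) t).1 ht, e6m2, by simp, rfl⟩, by rw [b3, n3, hcoe]; rfl⟩
  have hlen : chevE6.chain.toList.length = chevE6.nroots := autDataE6.hlen
  refine ⟨heq, ⟨(by decide : 0 < twE6.norb), longFlipE6, autDataE6.commNeg, noGraphE6, twChainE6, hlen, autDataE6.step,
    autDataE6.delta⟩, ?_⟩
  obtain ⟨f', h', e', -, hd, -, -⟩ := twistedE6_facts hq hK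
  have e1 := twSimplyE6.card_diag_fixed certE6C symOKE6_gr f fullCertE6 twCombE6 hZ
  have e2 := twSimplyE6.card_par_eq certE6C symOKE6_gr f fullCertE6 twCombE6 twLinkedE6 hq2 hK' hit
  rw [← heq, e', e2] at e1
  have e3 : (∏ J : Fin twE6.norb, (q ^ (twE6.orb J).length - 1)) = (q - 1) ^ 2 * (q ^ 2 - 1) ^ 2 := by
    show (∏ J : Fin 4, (q ^ (twE6.orb J).length - 1)) = _
    rw [Fin.prod_univ_four, show (twE6.orb (0 : Fin 4)).length = 2 from rfl,
      show (twE6.orb (1 : Fin 4)).length = 2 from rfl, show (twE6.orb (2 : Fin 4)).length = 1 from rfl,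
      show (twE6.orb (3 : Fin 4)).length = 1 from rfl, pow_one]
    ring
  rw [e3, ← hd] at e1
  exact Nat.eq_of_mul_eq_mul_right Nat.card_pos e1

end Cfsg.Lib.Chev
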