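import Cfsg.Agent.Lib.Chev.Borel
import Cfsg.Agent.Lib.Chev.NormalForm
import Cfsg.Agent.Lib.Chev.Descent
import Cfsg.Agent.Lib.Chev.TwSimply

/-!
Simple coefficients on the positive unipotent group, and regular unipotent elements:
an element of the group sending a regular element of `U` into `U` lies in the Borel subgroup.
-/

set_option autoImplicit false
set_option linter.unusedSectionVars false

namespace Cfsg.Lib.Chev.F4InTwE6

open Cfsg.Lie

variable {D : ChevalleyDatum} {T : Tbl} {F : Type*} [Field F] (C : Cert D T)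

open Classical in
/-- The coefficient at a simple root of an element of the positive unipotent group. -/
noncomputable def simpleCoef (i : ℕ) (y : GL D.Idx F) : F :=
  if h : ∃ t : F, ∃ v ∈ D.unipotentRadical F {i}, y = v * xg C (T.simp' i) t then h.choose else 0

variable (K : FullCert D T)
include C K

theorem simpleCoef_eq {i : ℕ} (hi : i < D.rank) {v : GL D.Idx F} (hv : v ∈ D.unipotentRadical F {i}) (t : F) :
    simpleCoef C i (v * xg C (T.simp' i) t) = t := by
  have h : ∃ t' : F, ∃ v' ∈ D.unipotentRadical F {i},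
      v * xg C (T.simp' i) t = v' * xg C (T.simp' i) t' := ⟨t, v, hv, rfl⟩
  rw [simpleCoef, dif_pos h]
  obtain ⟨v', hv', e⟩ := h.choose_spec
  generalize h.choose = u at e ⊢
  have e1 : v'⁻¹ * v = xg C (T.simp' i) (u + -t) := by
    rw [← xg_add, ← xg_inv, eq_mul_inv_iff_mul_eq, mul_assoc, e, inv_mul_cancel_left]
  have hl : xg C (T.simp' i) (u + -t) ∈ D.unipotentRadical F {i} ⊓ D.leviSubgroup F {i} :=
    Subgroup.mem_inf.2 ⟨e1 ▸ Subgroup.mul_mem _ (Subgroup.inv_mem _ hv') hv,
      xg_mem_levi C (inRootSub_simple C hi (Set.mem_singleton i)) _⟩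
  rw [radical_inf_levi C K, Subgroup.mem_bot] at hl
  exact add_neg_eq_zero.1 (xg_eq_one C (C.spec.simp_lt i hi) hl)

theorem simpleCoef_decomp {i : ℕ} (hi : i < D.rank) {y : GL D.Idx F} (hy : y ∈ D.posUnipotent F) :
    ∃ v ∈ D.unipotentRadical F {i}, y = v * xg C (T.simp' i) (simpleCoef C i y) := by
  obtain ⟨v, hv, t, rfl⟩ := pos_decomp C K hi hy
  exact ⟨v, hv, by rw [simpleCoef_eq C K hi hv]⟩

theorem simpleCoef_eq_zero_iff {i : ℕ} (hi : i < D.rank) {y : GL D.Idx F} (hy : y ∈ D.posUnipotent F) :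
    simpleCoef C i y = 0 ↔ y ∈ D.unipotentRadical F {i} := by
  refine ⟨fun h => ?_, fun h => ?_⟩
  · obtain ⟨v, hv, e⟩ := simpleCoef_decomp C K hi hy
    rw [e, h, xg_zero, mul_one]
    exact hv
  · have := simpleCoef_eq C K hi h 0
    rwa [xg_zero, mul_one] at this

theorem simpleCoef_one {i : ℕ} (hi : i < D.rank) : simpleCoef C i (1 : GL D.Idx F) = 0 :=
  (simpleCoef_eq_zero_iff C K hi (one_mem _)).2 (one_mem _)

theorem simpleCoef_mul {i : ℕ} (hi : i < D.rank) {a b : GL D.Idx F} (ha : a ∈ D.posUnipotent F)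
    (hb : b ∈ D.posUnipotent F) : simpleCoef C i (a * b) = simpleCoef C i a + simpleCoef C i b := by
  obtain ⟨v, hv, ea⟩ := simpleCoef_decomp C K hi ha
  obtain ⟨w, hw, eb⟩ := simpleCoef_decomp C K hi hb
  set s := simpleCoef C i a
  set t := simpleCoef C i b
  have hn := levi_le_normalizer C K {i} (xg_mem_levi C (inRootSub_simple C hi (Set.mem_singleton i)) s)
  have hw' : xg C (T.simp' i) s * w * (xg C (T.simp' i) s)⁻¹ ∈ D.unipotentRadical F {i} :=
    (Subgroup.mem_normalizer_iff.1 hn w).1 hw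
  have e : a * b = v * (xg C (T.simp' i) s * w * (xg C (T.simp' i) s)⁻¹) * xg C (T.simp' i) (s + t) := by
    rw [ea, eb, ← xg_add]; group
  rw [e, simpleCoef_eq C K hi (mul_mem hv hw')]

theorem simpleCoef_conj {i : ℕ} (hi : i < D.rank) {u z : GL D.Idx F} (hu : u ∈ D.posUnipotent F)
    (hz : z ∈ D.posUnipotent F) : simpleCoef C i (u * z * u⁻¹) = simpleCoef C i z := by
  have h1 : simpleCoef C i u + simpleCoef C i u⁻¹ = 0 := by
    rw [← simpleCoef_mul C K hi hu (inv_mem hu), mul_inv_cancel, simpleCoef_one C K hi]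
  rw [simpleCoef_mul C K hi (mul_mem hu hz) (inv_mem hu), simpleCoef_mul C K hi hu hz, add_right_comm, h1, zero_add]

open Classical in
theorem simpleCoef_xg {i : ℕ} (hi : i < D.rank) {r : ℕ} (hr : r < D.nroots) (hp : D.nroots ≤ 2 * r) (t : F) :
    simpleCoef C i (xg C r t) = if r = T.simp' i then t else 0 := by
  split_ifs with h
  · subst h
    have := simpleCoef_eq C K hi (one_mem (D.unipotentRadical F {i})) t
    rwa [one_mul] at this
  · exact (simpleCoef_eq_zero_iff C K hi (xg_mem_pos C hr hp t)).2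
      (xg_mem_radical C hr hp (fun hJ => h (inRootSub_singleton C K hi hJ hp)) t)

/-- The simple coefficient of an orbit element vanishes off the orbit. -/
theorem simpleCoef_orbEl_not_mem (f : F →+* F) {i : ℕ} (hi : i < D.rank) : ∀ (l : List ℕ) (v : F),
    (∀ s ∈ l, s < D.nroots ∧ D.nroots ≤ 2 * s) → T.simp' i ∉ l →
      orbEl C f l v ∈ D.posUnipotent F ∧ simpleCoef C i (orbEl C f l v) = 0
  | [], v, _, _ => ⟨one_mem _, simpleCoef_one C K hi⟩
  | r :: l, v, hl, hn => by
    obtain ⟨h1, h2⟩ := hl r (List.mem_cons_self ..)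
    rw [List.mem_cons, not_or] at hn
    obtain ⟨h3, h4⟩ := simpleCoef_orbEl_not_mem f hi l (f v) (fun s hs => hl s (List.mem_cons_of_mem _ hs)) hn.2
    have hx := xg_mem_pos C h1 h2 v (F := F)
    refine ⟨mul_mem hx h3, ?_⟩
    show simpleCoef C i (xg C r v * orbEl C f l (f v)) = 0
    rw [simpleCoef_mul C K hi hx h3, h4, simpleCoef_xg C K hi h1 h2, if_neg (Ne.symm hn.1), add_zero]

/-- The simple coefficient of an orbit element on the orbit. -/
theorem simpleCoef_orbEl_mem (f : F →+* F) {i : ℕ} (hi : i < D.rank) : ∀ (l : List ℕ) (v : F),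
    (∀ s ∈ l, s < D.nroots ∧ D.nroots ≤ 2 * s) → l.Nodup → T.simp' i ∈ l →
      simpleCoef C i (orbEl C f l v) = f^[l.idxOf (T.simp' i)] v
  | [], _, _, _, h => absurd h (List.not_mem_nil)
  | r :: l, v, hl, hnd, h => by
    obtain ⟨h1, h2⟩ := hl r (List.mem_cons_self ..)
    obtain ⟨hrl, hnd'⟩ := List.nodup_cons.1 hnd
    have hl' : ∀ s ∈ l, s < D.nroots ∧ D.nroots ≤ 2 * s := fun s hs => hl s (List.mem_cons_of_mem _ hs)
    have hx := xg_mem_pos C h1 h2 v (F := F)
    show simpleCoef C i (xg C r v * orbEl C f l (f v)) = _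
    by_cases hr : r = T.simp' i
    · subst hr
      obtain ⟨h3, h4⟩ := simpleCoef_orbEl_not_mem C K f hi l (f v) hl' hrl
      rw [simpleCoef_mul C K hi hx h3, h4, simpleCoef_xg C K hi h1 h2, if_pos rfl, add_zero, List.idxOf_cons_self]
      rfl
    · have h3 : orbEl C f l (f v) ∈ D.posUnipotent F := by
        have key : ∀ (m : List ℕ), (∀ s ∈ m, s < D.nroots ∧ D.nroots ≤ 2 * s) → ∀ w : F,
            orbEl C f m w ∈ D.posUnipotent F := by
          intro m
          induction m with
          | nil => exact fun _ w => one_mem _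
          | cons a m ih =>
            intro hm w
            exact mul_mem (xg_mem_pos C (hm a (List.mem_cons_self ..)).1 (hm a (List.mem_cons_self ..)).2 w)
              (ih (fun s hs => hm s (List.mem_cons_of_mem _ hs)) _)
        exact key l hl' _
      rw [simpleCoef_mul C K hi hx h3, simpleCoef_xg C K hi h1 h2, if_neg hr, zero_add,
        simpleCoef_orbEl_mem f hi l (f v) hl' hnd' ((List.mem_cons.1 h).resolve_left (Ne.symm hr)),
        List.idxOf_cons_ne _ hr, Function.iterate_succ_apply]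

theorem simpleCoef_map {E : Type*} [Field E] (φ : F →+* E) {i : ℕ} (hi : i < D.rank) {y : GL D.Idx F}
    (hy : y ∈ D.posUnipotent F) : Matrix.GeneralLinearGroup.map φ y ∈ D.posUnipotent E ∧
      simpleCoef C i (Matrix.GeneralLinearGroup.map φ y) = φ (simpleCoef C i y) := by
  have hrad : D.unipotentRadical F {i} ≤ (D.unipotentRadical E {i}).comap (Matrix.GeneralLinearGroup.map φ) := by
    refine (Subgroup.closure_le _).2 ?_
    rintro x ⟨r, t, hr, hn, e⟩
    show Matrix.GeneralLinearGroup.map φ x ∈ D.unipotentRadical E {i}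
    rw [eq_xg C e, map_xg]
    exact xg_mem_radical C hr.1 ((C.isPos_iff hr.1).1 hr) hn _
  obtain ⟨v, hv, e⟩ := simpleCoef_decomp C K hi hy
  have hm : Matrix.GeneralLinearGroup.map φ y =
      Matrix.GeneralLinearGroup.map φ v * xg C (T.simp' i) (φ (simpleCoef C i y)) := by
    conv_lhs => rw [e]
    rw [map_mul, map_xg]
  refine ⟨?_, ?_⟩
  · rw [hm]
    exact mul_mem (radical_le_pos C _ (hrad hv)) (xg_mem_pos C (C.spec.simp_lt i hi) (K.simple_pos hi) _)
  · rw [hm, simpleCoef_eq C K hi (hrad hv)]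

/-- An element moving a regular element of `U` into `U` lies in the Borel subgroup. -/
theorem mem_borel_of_regular {g y : GL D.Idx F} (hg : g ∈ D.group F) (hy : y ∈ D.posUnipotent F)
    (hreg : ∀ i < D.rank, y ∉ D.unipotentRadical F {i}) (hgy : g * y * g⁻¹ ∈ D.posUnipotent F) :
    g ∈ D.borelSubgroup F := by
  obtain ⟨w, hw, b, hb, c, hc, rfl⟩ := bruhat_normal C K hg
  have hev := nroots_even C
  have hcB := signPart_le_borel C K w true hc
  have hcU : c ∈ D.posUnipotent F := by
    rw [posUnipotent_eq C]; exact signPart_le_upper C K w true _ hc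
  have hy' : c * y * c⁻¹ ∈ D.posUnipotent F := mul_mem (mul_mem hcU hy) (inv_mem hcU)
  have hreg' : ∀ i < D.rank, c * y * c⁻¹ ∉ D.unipotentRadical F {i} := fun i hi h =>
    hreg i hi ((Subgroup.mem_normalizer_iff.1 (parabolic_le_normalizer C K {i}
      (Subgroup.mem_sup_left hcB)) y).2 h)
  set n := wnu C F w
  have hny : n * (c * y * c⁻¹) * n⁻¹ ∈ D.posUnipotent F := by
    obtain ⟨u, hu, d, hd, rfl⟩ := (mem_borel C).1 hb
    rw [show u * d * n * c * y * (u * d * n * c)⁻¹ = u * (d * (n * (c * y * c⁻¹) * n⁻¹) * d⁻¹) * u⁻¹ by group,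
      Subgroup.mul_mem_cancel_right _ (inv_mem hu), Subgroup.mul_mem_cancel_left _ hu] at hgy
    exact (Subgroup.mem_normalizer_iff.1 (diag_le_normalizer C hd) _).2 hgy
  have hyu : c * y * c⁻¹ ∈ upper C F (D.nroots / 2) := by rw [← posUnipotent_eq C]; exact hy'
  obtain ⟨a, ha, c', hc', e⟩ :=
    upper_split C K w (D.nroots / 2) (k := D.nroots / 2) (by omega) (by omega) hyu
  have hc1 : c' = 1 := by
    have h1 : n * c' * n⁻¹ ∈ D.posUnipotent F := by
      rw [show n * c' * n⁻¹ = (n * a * n⁻¹)⁻¹ * (n * (a * c') * n⁻¹) by group, ← e]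
      exact mul_mem (inv_mem ((signPart_conj C K hw).2 ha)) hny
    have h3 := (Subgroup.eq_bot_iff_forall _).1 (borel_inf_neg C) _
      ⟨Subgroup.mem_sup_left h1, (signPart_conj C K hw).1 hc'⟩
    simpa using h3
  rw [hc1, mul_one] at e
  have hkeep : ∀ i < D.rank, D.nroots ≤ 2 * wperm T w (T.simp' i) := by
    intro i hi
    by_contra hlt
    refine hreg' i hi ?_
    rw [e]
    refine (Subgroup.closure_le _).2 ?_ ha
    rintro x ⟨r, t, h1, h2, h3, rfl⟩
    refine xg_mem_radical C h2 (by omega) (fun hJ => ?_) t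
    have := inRootSub_singleton C K hi hJ (by omega)
    subst this
    have := of_decide_eq_false h3
    omega
  exact mul_mem (mul_mem hb (Subgroup.mem_sup_right (word_kernel C K _ rfl hw hkeep))) hcB

end Cfsg.Lib.Chev.F4InTwE6
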