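import Cfsg.Agent.Lib.Chev.FoldE6
import Cfsg.Agent.Lib.Chev.F4InTwE6.Regular

/-! The group F₄(2) inside E₆(2), its Sylow 2-subgroup of positive unipotent elements, and extension of the field. -/

set_option autoImplicit false
set_option linter.unusedSectionVars false
set_option maxRecDepth 100000

namespace Cfsg.Lib.Chev.F4InTwE6

open Cfsg.Lie

/-- The twisting data over the prime field. -/
theorem okTwo : TwOK certE6C twE6 (twSigma symOKE6_gr (RingHom.id (ZMod 2))) :=
  twSimplyE6.twOK certE6C symOKE6_gr (RingHom.id (ZMod 2)) fullCertE6 twCombE6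

/-- The points of E₆(2) fixed by the graph automorphism. -/
noncomputable abbrev grpTwo : Subgroup (GL chevE6.Idx (ZMod 2)) := okTwo.fixed certE6C

/-- Its positive unipotent elements. -/
noncomputable abbrev uniTwo : Subgroup (GL chevE6.Idx (ZMod 2)) := chevE6.posUnipotent (ZMod 2) ⊓ grpTwo

theorem hwtTwo : ∀ J < twE6.norb,
    Nat.card ↥(twFixPart certE6C (twSigma symOKE6_gr (RingHom.id (ZMod 2))) (twE6.base J)) = 2 := fun J hJ => by
  rw [twSimplyE6.card_fixPart certE6C symOKE6_gr (RingHom.id (ZMod 2)) fullCertE6 twCombE6 hJ,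
    Nat.card_congr (Equiv.subtypeUnivEquiv fun v : ZMod 2 => by
      rw [show ((RingHom.id (ZMod 2) : ZMod 2 →+* ZMod 2) : ZMod 2 → ZMod 2) = id from rfl, Function.iterate_id]
      rfl), Nat.card_zmod]

theorem card_uniTwo : Nat.card ↥uniTwo = 2 ^ twE6.classes.length :=
  okTwo.card_pos_fixed_unit certE6C fullCertE6 twCombE6 hwtTwo

theorem diagTwo : chevE6.diagonalSubgroup (ZMod 2) ⊓ grpTwo = ⊥ := by
  refine (Subgroup.eq_bot_iff_forall _).2 fun g hg => ?_
  have hg' := (Subgroup.mem_inf.1 hg).1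
  rw [← torusHom_range certE6C] at hg'
  obtain ⟨c, rfl⟩ := hg'
  have : c = 1 := funext fun i => by
    have key : ∀ u : (ZMod 2)ˣ, u = 1 := by decide
    exact key _
  rw [this, map_one]

theorem sum_elts_odd : (twE6.elts.map fun E => 2 ^ E.ow.length).sum % 2 = 1 := by decide +kernel

theorem index_of_card {a b S : ℕ} (ha : Nat.card ↥uniTwo = a) (hb : Nat.card ↥grpTwo = b * a * S) (hb1 : b = 1) :
    (uniTwo.subgroupOf grpTwo).index = S := by
  have h := (uniTwo.subgroupOf grpTwo).card_mul_index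
  rw [Nat.card_congr (Subgroup.subgroupOfEquivOfLe (inf_le_right : uniTwo ≤ grpTwo)).toEquiv, hb, hb1, one_mul,
    ← ha] at h
  exact Nat.eq_of_mul_eq_mul_left Nat.card_pos h

theorem card_diagTwo : Nat.card ↥(chevE6.diagonalSubgroup (ZMod 2) ⊓ grpTwo) = 1 := by
  rw [diagTwo, Subgroup.card_bot]

theorem index_uniTwo_odd : ¬ 2 ∣ (uniTwo.subgroupOf grpTwo).index := by
  rw [index_of_card card_uniTwo (okTwo.card_fixed_unit certE6C fullCertE6 twCombE6 hwtTwo chkTwLensE6) card_diagTwo,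
    Nat.dvd_iff_mod_eq_zero, sum_elts_odd]
  exact one_ne_zero

/-- A 2-element is conjugate into a subgroup of odd index. -/
theorem exists_conj_of_odd_index {G : Type*} [Group G] [Finite G] {z : G} {k : ℕ} (hk : z ^ 2 ^ k = 1)
    {U : Subgroup G} (hodd : ¬ 2 ∣ U.index) : ∃ h : G, h⁻¹ * z * h ∈ U := by
  have : Fact (Nat.Prime 2) := ⟨Nat.prime_two⟩
  have hP : IsPGroup 2 ↥(Subgroup.zpowers z) := by
    obtain ⟨m, -, hm⟩ := (Nat.dvd_prime_pow Nat.prime_two).1 (orderOf_dvd_of_pow_eq_one hk)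
    exact IsPGroup.of_card (by rw [Nat.card_zpowers, hm])
  obtain ⟨c, hc⟩ := hP.nonempty_fixed_point_of_prime_not_dvd_card (G ⧸ U) (by
    rwa [← Subgroup.index_eq_card])
  obtain ⟨h, rfl⟩ := QuotientGroup.mk_surjective c
  have h1 : ((z * h : G) : G ⧸ U) = (h : G ⧸ U) := hc ⟨z, Subgroup.mem_zpowers z⟩
  have h2 : h⁻¹ * (z * h) ∈ U := QuotientGroup.eq.1 h1.symm
  rw [← mul_assoc] at h2
  exact ⟨h, h2⟩

/-- Inside a subgroup, a 2-element is conjugate into a part of odd index. -/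
theorem exists_conj_in {G : Type*} [Group G] [Finite G] {S U : Subgroup G} {z : G} {k : ℕ} (hz : z ∈ S)
    (hk : z ^ 2 ^ k = 1) (hodd : ¬ 2 ∣ (U.subgroupOf S).index) : ∃ h ∈ S, h⁻¹ * z * h ∈ U := by
  obtain ⟨h, h'⟩ := exists_conj_of_odd_index (z := (⟨z, hz⟩ : ↥S)) (k := k) (Subtype.ext hk) hodd
  exact ⟨h, h.2, Subgroup.mem_subgroupOf.1 h'⟩

/-- The 2-elements are conjugate into the positive unipotent elements. -/
theorem exists_conj_uniTwo {z : GL chevE6.Idx (ZMod 2)} (hz : z ∈ grpTwo) {k : ℕ} (hk : z ^ 2 ^ k = 1) :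
    ∃ h ∈ grpTwo, h⁻¹ * z * h ∈ uniTwo :=
  exists_conj_in (k := k) hz hk index_uniTwo_odd

variable {K : Type*} [Field K] (φ : ZMod 2 →+* K) {f : K →+* K}

/-- Extension of the field sends orbit elements to orbit elements. -/
theorem map_orbEl_two (hf : ∀ t, f (φ t) = φ t) : ∀ (l : List ℕ) (v : ZMod 2),
    Matrix.GeneralLinearGroup.map φ (orbEl certE6C (RingHom.id (ZMod 2)) l v) = orbEl certE6C f l (φ v)
  | [], v => map_one _
  | r :: l, v => by
    show Matrix.GeneralLinearGroup.map φ (xg certE6C r v * orbEl certE6C (RingHom.id (ZMod 2)) l v) =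
      xg certE6C r (φ v) * orbEl certE6C f l (f (φ v))
    rw [map_mul, map_xg, map_orbEl_two hf l v, hf]

theorem grpTwo_eq_closure :
    grpTwo = Subgroup.closure (twOrbGen certE6C (RingHom.id (ZMod 2)) twE6) :=
  twSimplyE6.fixed_eq_closure certE6C symOKE6_gr _ fullCertE6 twCombE6 twLinkedE6 hZFoldE6

/-- Extension of the field sends the group over the prime field into a group containing the orbit elements. -/
theorem map_grpTwo_le (hf : ∀ t, f (φ t) = φ t) {G : Subgroup (GL chevE6.Idx K)}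
    (h : twOrbGen certE6C f twE6 ⊆ (G : Set (GL chevE6.Idx K))) :
    grpTwo.map (Matrix.GeneralLinearGroup.map φ) ≤ G := by
  rw [grpTwo_eq_closure, MonoidHom.map_closure, Subgroup.closure_le]
  rintro _ ⟨g, ⟨J, hJ, v, -, hg⟩, rfl⟩
  refine h ⟨J, hJ, φ v, ?_, ?_⟩
  · exact Function.IsFixedPt.iterate (hf v) _
  · rcases hg with rfl | rfl
    · exact Or.inl (map_orbEl_two φ hf _ _)
    · exact Or.inr (map_orbEl_two φ hf _ _)

/-- The coefficients of the images of the positive unipotent elements are zero and one. -/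
theorem coef_uniTwo {u : GL chevE6.Idx (ZMod 2)} (hu : u ∈ uniTwo) {i : ℕ} (hi : i < chevE6.rank) :
    Matrix.GeneralLinearGroup.map φ u ∈ chevE6.posUnipotent K ∧
      (simpleCoef certE6C i (Matrix.GeneralLinearGroup.map φ u) = 0 ∨
        simpleCoef certE6C i (Matrix.GeneralLinearGroup.map φ u) = 1) := by
  obtain ⟨h1, h2⟩ := simpleCoef_map certE6C fullCertE6 φ hi (Subgroup.mem_inf.1 hu).1
  refine ⟨h1, ?_⟩
  rw [h2]
  have key : ∀ t : ZMod 2, t = 0 ∨ t = 1 := by decide
  rcases key (simpleCoef certE6C i u) with e | e <;> rw [e]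
  · exact Or.inl (map_zero φ)
  · exact Or.inr (map_one φ)

end Cfsg.Lib.Chev.F4InTwE6
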