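import Cfsg.Agent.Lib.Chev.F4InTwE6.NonConj

/-! Three classes of images of a split subgroup in a twisted group with scalars of exponent three. -/

set_option autoImplicit false
set_option linter.unusedSectionVars false

namespace Cfsg.Lib.Chev

open Cfsg.Lie

namespace TwCtx

variable {D : ChevalleyDatum} {T : Tbl} {F : Type*} [Field F] (X : TwCtx D T F) [Finite F]
  {E : Type*} [Field E] (φ : E →+* F)

theorem map_orbEl_fixed (hφ : ∀ t, X.frob (φ t) = φ t) : ∀ (l : List ℕ) (v : E),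
    Matrix.GeneralLinearGroup.map φ (orbEl X.cert (RingHom.id E) l v) = orbEl X.cert X.frob l (φ v)
  | [], v => map_one _
  | r :: l, v => by
    show Matrix.GeneralLinearGroup.map φ (xg X.cert r v * orbEl X.cert (RingHom.id E) l v) =
      xg X.cert r (φ v) * orbEl X.cert X.frob l (X.frob (φ v))
    rw [map_mul, map_xg, map_orbEl_fixed hφ l v, hφ]

/-- The split regular element. -/
noncomputable def regTwo (E : Type*) [Field E] : GL D.Idx E :=
  ((List.finRange X.tw.norb).map fun J : Fin X.tw.norb => orbEl X.cert (RingHom.id E) (X.tw.base J) (1 : E)).prod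

theorem regTwo_mem {G : Subgroup (GL D.Idx E)}
    (hG : ∀ J : Fin X.tw.norb, orbEl X.cert (RingHom.id E) (X.tw.base J) (1 : E) ∈ G) : X.regTwo E ∈ G :=
  list_prod_mem fun y hy => by
    obtain ⟨J, -, rfl⟩ := List.mem_map.1 hy
    exact hG J

theorem regTwo_pos : X.regTwo E ∈ D.posUnipotent E := by
  refine X.regTwo_mem fun J => ?_
  have key : ∀ (l : List ℕ), (∀ s ∈ l, s < D.nroots ∧ D.nroots ≤ 2 * s) → ∀ w : E,
      orbEl X.cert (RingHom.id E) l w ∈ D.posUnipotent E := by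
    intro l
    induction l with
    | nil => exact fun _ w => one_mem _
    | cons a l ih =>
      intro hl w
      exact mul_mem (xg_mem_pos X.cert (hl a (List.mem_cons_self ..)).1 (hl a (List.mem_cons_self ..)).2 w)
        (ih (fun s hs => hl s (List.mem_cons_of_mem _ hs)) _)
  exact key _ (X.base_data J).1 1

theorem map_regTwo (hφ : ∀ t, X.frob (φ t) = φ t) :
    Matrix.GeneralLinearGroup.map φ (X.regTwo E) = (X.regEl 1 : GL D.Idx F) := by
  rw [regEl, regTwo, SubmonoidClass.coe_list_prod, List.map_map, map_list_prod, List.map_map]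
  congr 1
  refine List.map_congr_left fun J _ => ?_
  show Matrix.GeneralLinearGroup.map φ (orbEl X.cert (RingHom.id E) (X.tw.base J) 1) = X.el J _
  rw [X.map_orbEl_fixed φ hφ, map_one]
  simp

open F4InTwE6 in
/-- Three non-conjugate copies of a split subgroup. -/
theorem three_copies (A : X.AutChecks) (hφ : ∀ t, X.frob (φ t) = φ t) (htwo : ∀ t : E, t = 0 ∨ t = 1)
    {G0 : Subgroup (GL D.Idx E)} (hle : G0.map (Matrix.GeneralLinearGroup.map φ) ≤ X.grp)
    (hgen : ∀ J : Fin X.tw.norb, orbEl X.cert (RingHom.id E) (X.tw.base J) (1 : E) ∈ G0) {N : ℕ}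
    (hN : ∀ u ∈ D.posUnipotent E ⊓ G0, u ^ N = 1)
    (hconj : ∀ z ∈ G0, z ^ N = 1 → ∃ h ∈ G0, h⁻¹ * z * h ∈ D.posUnipotent E ⊓ G0) (hr : 0 < D.rank)
    (hker : Nat.card ↥((torusHom D T F).ker ⊓ twFixPar X.symOK X.frob X.cert) = 3)
    (hexp : ∀ u : Fˣ, u ^ 3 = 1) :
    ∃ H : Fin 3 → Subgroup ↥X.grp, (∀ i, Nonempty (↥(H i) ≃* ↥G0)) ∧
      ∀ i j, i ≠ j → ∀ g : ↥X.grp, (H i).map (MulAut.conj g).toMonoidHom ≠ H j := by
  classical
  let M : GL D.Idx E →* GL D.Idx F := Matrix.GeneralLinearGroup.map φ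
  have hM : Function.Injective M := map_gl_injective φ
  let H0 : Subgroup ↥X.grp := (G0.map M).subgroupOf X.grp
  have hx0 : X.regTwo E ∈ D.posUnipotent E ⊓ G0 := ⟨X.regTwo_pos, X.regTwo_mem hgen⟩
  have hMx : M (X.regTwo E) = (X.regEl 1 : GL D.Idx F) := X.map_regTwo φ hφ
  have hmem0 : X.regEl 1 ∈ H0 := Subgroup.mem_subgroupOf.2 ⟨X.regTwo E, hx0.2, hMx⟩
  have hN1 : X.regEl 1 ^ N = 1 := by
    apply Subtype.ext
    rw [SubgroupClass.coe_pow, ← hMx, ← map_pow, hN _ hx0, map_one]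
    rfl
  have hH : ∀ z ∈ H0, z ^ N = 1 → ∃ h ∈ H0, ((h⁻¹ * z * h : ↥X.grp) : GL D.Idx F) ∈ D.posUnipotent F ∧
      ∀ i < D.rank, simpleCoef X.cert i ((h⁻¹ * z * h : ↥X.grp) : GL D.Idx F) = 0 ∨
        simpleCoef X.cert i ((h⁻¹ * z * h : ↥X.grp) : GL D.Idx F) = 1 := by
    intro z hz hzk
    obtain ⟨z0, hz0, ez⟩ := Subgroup.mem_subgroupOf.1 hz
    have hz0k : z0 ^ N = 1 := hM (by
      rw [map_pow, ez, map_one, ← SubgroupClass.coe_pow, hzk]; rfl)
    obtain ⟨h, hh, hu⟩ := hconj z0 hz0 hz0k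
    refine ⟨⟨M h, hle (Subgroup.mem_map_of_mem M hh)⟩, Subgroup.mem_subgroupOf.2 ⟨h, hh, rfl⟩, ?_⟩
    have e : ((⟨M h, hle (Subgroup.mem_map_of_mem M hh)⟩⁻¹ * z * ⟨M h, hle (Subgroup.mem_map_of_mem M hh)⟩ : ↥X.grp) :
        GL D.Idx F) = M (h⁻¹ * z0 * h) := by
      rw [Subgroup.coe_mul, Subgroup.coe_mul, Subgroup.coe_inv, map_mul, map_mul, map_inv, ez]
    rw [e]
    refine ⟨(simpleCoef_map X.cert X.full φ hr hu.1).1, fun i hi => ?_⟩
    rw [(simpleCoef_map X.cert X.full φ hi hu.1).2]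
    rcases htwo (simpleCoef X.cert i (h⁻¹ * z0 * h)) with c | c <;> rw [c]
    · exact Or.inl (map_zero φ)
    · exact Or.inr (map_one φ)
  -- a diagonal automorphism outside the inner ones
  let R := X.torScal.range
  have hRtop : R ≠ ⊤ := by
    intro htop
    have h1 : Nat.card ↥X.torScal.ker * Nat.card ↥R = Nat.card X.Scal := by
      have h2 := Subgroup.card_eq_card_quotient_mul_card_subgroup X.torScal.ker
      rw [Nat.card_congr (QuotientGroup.quotientKerEquivRange _).toEquiv, X.card_par_scal A] at h2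
      rw [h2, mul_comm]
    rw [htop, Subgroup.card_top] at h1
    have hker1 : Nat.card ↥X.torScal.ker = 1 := (Nat.mul_eq_right Nat.card_pos.ne').1 h1
    have hker3 : Nat.card ↥X.torScal.ker = 3 := by
      refine Eq.trans ?_ hker
      exact Nat.card_eq_of_bijective
        (fun z => (⟨z.1.1, (X.torScal_eq_one A).1 (MonoidHom.mem_ker.1 z.2), z.1.2⟩ :
          ↥((torusHom D T F).ker ⊓ twFixPar X.symOK X.frob X.cert)))
        ⟨fun a b h => Subtype.ext (Subtype.ext (congrArg (fun z : ↥((torusHom D T F).ker ⊓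
          twFixPar X.symOK X.frob X.cert) => (z : Fin D.rank → Fˣ)) h)),
          fun z => ⟨⟨⟨z.1, z.2.2⟩, MonoidHom.mem_ker.2 ((X.torScal_eq_one A).2 z.2.1)⟩, rfl⟩⟩
    omega
  obtain ⟨v, hv⟩ : ∃ v : X.Scal, v ∉ R := by
    by_contra hh
    push Not at hh
    exact hRtop ((Subgroup.eq_top_iff' R).2 hh)
  have hv3 : v ^ 3 = 1 := funext fun J => Subtype.ext (hexp (v J : Fˣ))
  have hne : ∀ i j : Fin 3, i ≠ j → v ^ (i : ℕ) * (v ^ (j : ℕ))⁻¹ ∉ R := by
    intro i j hij hmem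
    have hv3' : v⁻¹ = v ^ 2 := inv_eq_of_mul_eq_one_right (by rw [← pow_succ']; exact hv3)
    have e : v ^ (i : ℕ) * (v ^ (j : ℕ))⁻¹ = v ^ (((i : ℕ) + 2 * j) % 3) := by
      rw [← inv_pow, hv3', ← pow_mul, ← pow_add, pow_eq_pow_mod _ hv3]
    rw [e] at hmem
    have hcase : ((i : ℕ) + 2 * j) % 3 = 1 ∨ ((i : ℕ) + 2 * j) % 3 = 2 := by
      have : (i : ℕ) ≠ j := fun e => hij (Fin.ext e)
      have := i.2
      have := j.2
      omega
    rcases hcase with c | c <;> rw [c] at hmem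
    · rw [pow_one] at hmem; exact hv hmem
    · have h4 := R.pow_mem hmem 2
      rw [← pow_mul, show 2 * 2 = 3 + 1 from rfl, pow_succ, hv3, one_mul] at h4
      exact hv h4
  have hone : X.diagT A (1 : X.Scal) = 1 :=
    mul_left_cancel (a := X.diagT A 1) (by rw [← X.diagT_mul, one_mul, mul_one])
  refine ⟨fun i => H0.map (X.diagT A (v ^ (i : ℕ))).toMonoidHom, fun i => ?_, fun i j hij g he => ?_⟩
  · exact ⟨((((X.diagT A (v ^ (i : ℕ))).subgroupMap H0).symm.trans
      (Subgroup.subgroupOfEquivOfLe hle)).trans (G0.equivMapOfInjective M hM).symm)⟩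
  · -- pull back by the second automorphism
    apply hne i j hij
    set a := v ^ (i : ℕ)
    set b := v ^ (j : ℕ)
    refine X.diagT_not_conj A hmem0 hN1 hH (X.diagT A b⁻¹ g) ?_
    have h2 := congrArg (fun S : Subgroup ↥X.grp => S.map (X.diagT A b⁻¹).toMonoidHom) he
    have h3 : (H0.map (X.diagT A b).toMonoidHom).map (X.diagT A b⁻¹).toMonoidHom = H0 := by
      rw [Subgroup.map_map]
      convert Subgroup.map_id H0
      refine MonoidHom.ext fun y => Subtype.ext ?_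
      show ((X.diagT A b⁻¹ (X.diagT A b y) : ↥X.grp) : GL D.Idx F) = y
      rw [← MulAut.mul_apply, ← X.diagT_mul, inv_mul_cancel, hone]
      rfl
    simp only at h2
    rw [h3, Subgroup.map_map, Subgroup.map_map] at h2
    rw [Subgroup.map_map]
    conv_rhs => rw [← h2]
    congr 1
    refine MonoidHom.ext fun y => ?_
    show X.diagT A b⁻¹ g * X.diagT A (a * b⁻¹) y * (X.diagT A b⁻¹ g)⁻¹ =
      X.diagT A b⁻¹ (g * X.diagT A a y * g⁻¹)
    rw [map_mul, map_mul, map_inv, mul_comm a b⁻¹, X.diagT_mul, MulAut.mul_apply]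

end TwCtx

end Cfsg.Lib.Chev
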