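import Cfsg.Agent.Lib.Chev.F4InTwE6.Ctx
import Cfsg.Agent.Lib.Chev.F4InTwE6.Embed
import Cfsg.Agent.Lib.Chev.F4InTwE6.Three

/-! Three classes of subgroups F₄(2) in ²E₆(2). -/

set_option autoImplicit false
set_option linter.unusedSectionVars false
set_option maxRecDepth 100000

namespace Cfsg.Lib.Chev.F4InTwE6

open Cfsg.Lie

theorem pow_card_uni {u : GL chevE6.Idx (ZMod 2)} (hu : u ∈ uniTwo) : u ^ Nat.card ↥uniTwo = 1 :=
  congrArg Subtype.val (pow_card_eq_one' (x := (⟨u, hu⟩ : ↥uniTwo)))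

/-- An element killed by the order of the unipotent elements is conjugate to one of them. -/
theorem conj_uni {z : GL chevE6.Idx (ZMod 2)} (hz : z ∈ grpTwo) (h : z ^ Nat.card ↥uniTwo = 1) :
    ∃ h ∈ grpTwo, h⁻¹ * z * h ∈ uniTwo := by
  rw [card_uniTwo] at h
  exact exists_conj_uniTwo hz h

theorem orbEl_mem_grpTwo {J : ℕ} (hJ : J < twE6.norb) :
    orbEl certE6C (RingHom.id (ZMod 2)) (twE6.base J) (1 : ZMod 2) ∈ grpTwo :=
  twSimplyE6.gen_le_fixed certE6C symOKE6_gr (RingHom.id (ZMod 2)) fullCertE6 twCombE6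
    ⟨J, hJ, 1, iterate_map_one (RingHom.id (ZMod 2)) _, Or.inl rfl⟩

variable {K : Type*} [Field K] [Fintype K]

/-- A field with four elements has characteristic two. -/
theorem charTwo (hK : Fintype.card K = 4) : CharP K 2 := by
  have h4 : (2 : K) * 2 = 0 := by
    have := Nat.cast_card_eq_zero K
    rw [hK] at this
    norm_num at this ⊢
    exact this
  have h2 : ((2 : ℕ) : K) = 0 := by
    push_cast
    exact mul_self_eq_zero.1 h4
  exact (CharP.charP_iff_prime_eq_zero Nat.prime_two).2 h2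

theorem units_cube (hK : Fintype.card K = 4) (u : Kˣ) : u ^ 3 = 1 := by
  classical
  have := pow_card_eq_one (x := u)
  rwa [Fintype.card_units, hK] at this

/-- The three classes. -/
theorem exists_three (hK : Fintype.card K = 4) :
    ∃ H : Fin 3 → Subgroup (Cfsg.Lie.twistedE6 K 2),
      (∀ i, Nonempty ((H i) ≃* Cfsg.Lie.chevF4.group (ZMod 2))) ∧
      (∀ i j, i ≠ j → ∀ g : (Cfsg.Lie.twistedE6 K 2), (H i).map (MulAut.conj g).toMonoidHom ≠ H j) := by
  have hq : IsPrimePow 2 := Nat.prime_two.isPrimePow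
  have hK2 : Fintype.card K = 2 ^ 2 := by rw [hK]; norm_num
  have hK' : Nat.card K = 2 ^ 2 := by rw [Nat.card_eq_fintype_card]; exact hK2
  have := charTwo hK
  obtain ⟨f, hf, hit, hk⟩ := exists_frobQ hq (by norm_num) hK'
  obtain ⟨heq, A, hker⟩ := ctxE6Of_spec hq hK2 hf hit hk hK'
  rw [heq]
  let φ : ZMod 2 →+* K := ZMod.castHom (dvd_refl 2) K
  have hfφ : ∀ t, f (φ t) = φ t := fun t => congrFun (congrArg DFunLike.coe
    (Subsingleton.elim (f.comp φ) φ)) t
  have htwo : ∀ t : ZMod 2, t = 0 ∨ t = 1 := by decide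
  have hker3 : Nat.gcd 3 (2 + 1) = 3 := by norm_num
  obtain ⟨H, h1, h2⟩ := (ctxE6Of hq hK' hit hk).three_copies φ A hfφ htwo (G0 := grpTwo)
    (map_grpTwo_le φ (f := f) hfφ (twSimplyE6.gen_le_fixed certE6C symOKE6_gr f fullCertE6 twCombE6))
    (fun J => orbEl_mem_grpTwo J.2) (N := Nat.card ↥uniTwo) (fun u hu => pow_card_uni hu)
    (fun z hz hzN => conj_uni hz hzN) (by decide) (hker.trans hker3) (units_cube hK)
  obtain ⟨e⟩ := foldE6_iso (K := ZMod 2)
  exact ⟨H, fun i => ⟨(h1 i).some.trans e⟩, h2⟩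

end Cfsg.Lib.Chev.F4InTwE6
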