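import Cfsg.Agent.Lib.Chev.TwAutOut
import Cfsg.Agent.Lib.Chev.F4InTwE6.Regular

/-!
A subgroup of a twisted group containing a regular unipotent element and meeting unipotent conjugates of it only
in simple coefficients zero and one is not conjugate to its images under non-inner diagonal automorphisms.
-/

set_option autoImplicit false
set_option linter.unusedSectionVars false

namespace Cfsg.Lib.Chev

open Cfsg.Lie

namespace TwCtx

variable {D : ChevalleyDatum} {T : Tbl} {F : Type*} [Field F] (X : TwCtx D T F) [Finite F]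

/-- The product of one element from each positive orbit subgroup. -/
noncomputable def regEl (v : X.Scal) : ↥X.grp :=
  ((List.finRange X.tw.norb).map fun J => X.pe J ⟨((v J : Fˣ) : F), (v J).2⟩).prod

theorem diagT_regEl (A : X.AutChecks) (w v : X.Scal) : X.diagT A w (X.regEl v) = X.regEl (w * v) := by
  rw [regEl, regEl, map_list_prod, List.map_map]
  congr 1
  refine List.map_congr_left fun J _ => Subtype.ext ?_
  show (X.diagT A w (X.pe J ⟨((v J : Fˣ) : F), (v J).2⟩) : GL D.Idx F) = _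
  rw [(X.diagT_spec A w).1.pos]
  simp [pe]

theorem regEl_pos (v : X.Scal) : (X.regEl v : GL D.Idx F) ∈ D.posUnipotent F := by
  rw [regEl, SubmonoidClass.coe_list_prod, List.map_map]
  refine list_prod_mem fun x hx => ?_
  obtain ⟨J, -, rfl⟩ := List.mem_map.1 hx
  exact X.el_pos J _

theorem idxOf_head {J : ℕ} (hJ : J < X.tw.norb) :
    (X.tw.base J).idxOf (T.simp' (X.tw.head J)) = 0 ∧ T.simp' (X.tw.head J) ∈ X.tw.base J := by
  obtain ⟨r, l, hr, hb, -, -, -, -, -⟩ := X.simply.orbit_data X.cert X.symOK (F := F) X.full X.comb hJ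
  rw [hb, ← hr]
  exact ⟨List.idxOf_cons_self, List.mem_cons_self ..⟩

theorem base_nodup' {J : ℕ} (hJ : J < X.tw.norb) : (X.tw.base J).Nodup := by
  obtain ⟨r, l, -, hb, -, -, hnd, -, -⟩ := X.simply.orbit_data X.cert X.symOK (F := F) X.full X.comb hJ
  rw [hb]; exact hnd

open F4InTwE6 in
/-- The simple coefficients of the regular element. -/
theorem simpleCoef_regEl (v : X.Scal) {i : ℕ} (hi : i < D.rank) {J : Fin X.tw.norb} (hiJ : i ∈ X.tw.orb J) :
    simpleCoef X.cert i (X.regEl v : GL D.Idx F) =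
      X.frob^[(X.tw.base J).idxOf (T.simp' i)] ((v J : Fˣ) : F) := by
  classical
  have hsum : ∀ l : List (GL D.Idx F), (∀ x ∈ l, x ∈ D.posUnipotent F) →
      simpleCoef X.cert i l.prod = (l.map (simpleCoef X.cert i)).sum := by
    intro l
    induction l with
    | nil => intro _; exact simpleCoef_one X.cert X.full hi
    | cons a l ih =>
      intro h
      rw [List.prod_cons, simpleCoef_mul X.cert X.full hi (h a (List.mem_cons_self ..))
        (list_prod_mem fun x hx => h x (List.mem_cons_of_mem _ hx)), List.map_cons, List.sum_cons,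
        ih fun x hx => h x (List.mem_cons_of_mem _ hx)]
  rw [regEl, SubmonoidClass.coe_list_prod, List.map_map, hsum _ (fun x hx => by
    obtain ⟨J', -, rfl⟩ := List.mem_map.1 hx
    exact X.el_pos J' _), List.map_map, ← Fin.sum_univ_def, Finset.sum_eq_single J ?_ (by simp)]
  · refine simpleCoef_orbEl_mem X.cert X.full X.frob hi _ _ (X.base_data J).1 (X.base_nodup' J.2) ?_
    rw [X.simply.base_eq J J.2]
    exact List.mem_map_of_mem hiJ
  · intro J' _ hne
    refine (simpleCoef_orbEl_not_mem X.cert X.full X.frob hi _ _ (X.base_data J').1 ?_).2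
    rw [X.simply.base_eq J' J'.2]
    intro h
    obtain ⟨a, ha, e⟩ := List.mem_map.1 h
    have := simp_inj X.cert (X.comb.orb_lt J' J'.2 a ha) hi e
    subst this
    exact hne (Fin.ext (X.linked.orb_disj J' J'.2 J J.2 a ha hiJ))

theorem regEl_not_radical (v : X.Scal) {i : ℕ} (hi : i < D.rank) :
    (X.regEl v : GL D.Idx F) ∉ D.unipotentRadical F {i} := by
  intro h
  obtain ⟨J, hJ, hiJ⟩ := X.comb.orb_cover i hi
  have h0 := (F4InTwE6.simpleCoef_eq_zero_iff X.cert X.full hi (X.regEl_pos v)).2 h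
  rw [X.simpleCoef_regEl v hi (J := ⟨J, hJ⟩) hiJ] at h0
  have hne : ∀ (m : ℕ) (t : F), t ≠ 0 → X.frob^[m] t ≠ 0 := fun m => by
    induction m with
    | zero => exact fun t ht => ht
    | succ m ih => exact fun t ht => by rw [Function.iterate_succ_apply]; exact ih _ ((map_ne_zero X.frob).2 ht)
  exact hne _ _ (Units.ne_zero _) h0

open F4InTwE6 in
/-- A non-inner diagonal automorphism moves the subgroup to a non-conjugate one. -/
theorem diagT_not_conj (A : X.AutChecks) {H : Subgroup ↥X.grp} {N : ℕ} (hx : X.regEl 1 ∈ H)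
    (hN : X.regEl 1 ^ N = 1)
    (hH : ∀ z ∈ H, z ^ N = 1 → ∃ h ∈ H, ((h⁻¹ * z * h : ↥X.grp) : GL D.Idx F) ∈ D.posUnipotent F ∧
      ∀ i < D.rank, simpleCoef X.cert i ((h⁻¹ * z * h : ↥X.grp) : GL D.Idx F) = 0 ∨
        simpleCoef X.cert i ((h⁻¹ * z * h : ↥X.grp) : GL D.Idx F) = 1)
    (g : ↥X.grp) {w : X.Scal}
    (he : (H.map (X.diagT A w).toMonoidHom).map (MulAut.conj g).toMonoidHom = H) : w ∈ X.torScal.range := by
  have hy : g * X.diagT A w (X.regEl 1) * g⁻¹ ∈ H :=
    he ▸ Subgroup.mem_map_of_mem _ (Subgroup.mem_map_of_mem _ hx)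
  have hyN : (g * X.diagT A w (X.regEl 1) * g⁻¹) ^ N = 1 := by
    rw [conj_pow, ← map_pow, hN, map_one, mul_one, mul_inv_cancel]
  obtain ⟨h, -, hpos, hcoef⟩ := hH _ hy hyN
  rw [X.diagT_regEl A, mul_one] at hpos hcoef
  set g1 : ↥X.grp := h⁻¹ * g with hg1
  have e1 : h⁻¹ * (g * X.regEl w * g⁻¹) * h = g1 * X.regEl w * g1⁻¹ := by rw [hg1]; group
  rw [e1] at hpos hcoef
  have hB : (g1 : GL D.Idx F) ∈ D.borelSubgroup F :=
    mem_borel_of_regular X.cert X.full g1.2.1 (X.regEl_pos w) (fun i hi => X.regEl_not_radical w hi) hpos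
  obtain ⟨u, hu, huG, d, hd, hdG, hsplit⟩ := X.borel_split hB g1.2
  obtain ⟨c, hc, ec⟩ := (X.simply.diag_fixed X.cert X.symOK X.frob X.full X.comb X.torus).1
    (show d ∈ D.diagonalSubgroup F ⊓ X.grp from ⟨hd, hdG⟩)
  have hconj : d * (X.regEl w : GL D.Idx F) * d⁻¹ = X.regEl (X.torScal ⟨c, hc⟩ * w) := by
    rw [← X.diagT_regEl A, ← X.conj_tor A ⟨c, hc⟩, ← ec]
    rfl
  refine ⟨⟨c, hc⟩⁻¹, ?_⟩
  rw [map_inv, inv_eq_iff_mul_eq_one]
  funext J
  refine Subtype.ext (Units.ext ?_)
  have hh := X.comb.head_mem J.2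
  have hhl := X.comb.orb_lt J J.2 _ hh
  have key : simpleCoef X.cert (X.tw.head J) ((g1 * X.regEl w * g1⁻¹ : ↥X.grp) : GL D.Idx F) =
      (((X.torScal ⟨c, hc⟩ * w) J : Fˣ) : F) := by
    rw [Subgroup.coe_mul, Subgroup.coe_mul, Subgroup.coe_inv, hsplit,
      show u * d * (X.regEl w : GL D.Idx F) * (u * d)⁻¹ = u * (d * (X.regEl w : GL D.Idx F) * d⁻¹) * u⁻¹ by group,
      hconj, simpleCoef_conj X.cert X.full hhl hu (X.regEl_pos _), X.simpleCoef_regEl _ hhl hh,
      (X.idxOf_head J.2).1]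
    rfl
  rcases hcoef _ hhl with h0 | h0
  · rw [key] at h0; exact absurd h0 (Units.ne_zero _)
  · rw [key] at h0; exact h0

end TwCtx

end Cfsg.Lib.Chev
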